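import Cfsg.Agent.Lib.H64.TCMCD.Data
import Cfsg.Agent.Lib.H35.TCIdx
set_option autoImplicit false
set_option maxRecDepth 100000
set_option linter.all false
namespace H64.TCMCD
open H35.TC
/-- letters -/
inductive Lt | p | pi | q | qi | z | zi | y | yi
  deriving DecidableEq
/-- inverse letter -/
def inv : Lt → Lt
  | .p => .pi
  | .pi => .p
  | .q => .qi
  | .qi => .q
  | .z => .zi
  | .zi => .z
  | .y => .yi
  | .yi => .y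
/-- table functions -/
noncomputable def T : Lt → ℕ → ℕ
  | .p => T_p
  | .pi => T_pi
  | .q => T_q
  | .qi => T_qi
  | .z => T_z
  | .zi => T_zi
  | .y => T_y
  | .yi => T_yi
/-- decoding of letter codes -/
def lt : ℕ → Lt
  | 0 => .p
  | 1 => .pi
  | 2 => .q
  | 3 => .qi
  | 4 => .z
  | 5 => .zi
  | 6 => .y
  | _ => .yi
/-- Coxeter matrix (0: no relation) -/
def mm : Lt → Lt → ℕ
  | _, _ => 0
/-- extra relators `w ^ n` -/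
def extra : List (List Lt × ℕ) := [
  ([.z, .p, .zi, .pi], 1),
  ([.z, .q, .zi, .qi], 1),
  ([.z, .y, .zi, .yi], 1),
  ([.y, .p, .yi, .pi], 1),
  ([.y, .q, .yi, .qi], 1),
  ([.z], 9),
  ([.y], 9),
  ([.q, .pi, .pi, .qi, .p, .q, .p, .p, .qi, .p], 1),
  ([.p, .qi, .qi, .p, .qi, .qi, .p, .qi, .qi, .zi], 1),
  ([.p, .q, .pi, .qi, .qi, .pi, .q, .p, .qi, .qi, .yi], 1),
  ([.q, .p, .qi, .p, .q, .pi, .qi, .pi, .q, .pi, .qi, .p], 1),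
  ([.p, .q, .p, .q, .pi, .q, .q, .p, .q, .pi, .qi, .qi, .p, .qi, .pi, .qi, .pi, .q], 1),
  ([.p, .pi], 1),
  ([.pi, .p], 1),
  ([.q, .qi], 1),
  ([.qi, .q], 1),
  ([.z, .zi], 1),
  ([.zi, .z], 1),
  ([.y, .yi], 1),
  ([.yi, .y], 1)]
/-- relators -/
def rels : List (List Lt) := mkRels [] mm extra
/-- subgroup words -/
def subs : List (List Lt) := [
  [.q]]
noncomputable def dp_p_0 (j u : ℕ) : Bool :=
  Bool.rec (motive := fun _ => Bool) (lF3 T_y T_pi T_yi M (Nat.sub (T_p u) (Nat.mod (T_p u) M)) (Nat.mod (T_p u) M) u) (lS MG [T_pi] M (Nat.sub (T_p u) (Nat.mod (T_p u) M)) (nat_lit 40) (Nat.mod (T_p u) M) u) (Nat.ble (nat_lit 7) j)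
noncomputable def dp_p_1 (j u : ℕ) : Bool :=
  Bool.rec (motive := fun _ => Bool) (lS MG [T_q, T_p, T_p, T_qi, T_p, T_q, T_pi, T_pi, T_qi] M (Nat.sub (T_p u) (Nat.mod (T_p u) M)) (nat_lit 40) (Nat.mod (T_p u) M) u) (lS MG [T_zi, T_pi, T_z] M (Nat.sub (T_p u) (Nat.mod (T_p u) M)) (nat_lit 40) (Nat.mod (T_p u) M) u) (Nat.ble (nat_lit 10) j)
noncomputable def dp_p_2 (j u : ℕ) : Bool :=
  Bool.rec (motive := fun _ => Bool) (lS MG [T_qi, T_p, T_q, T_pi, T_pi, T_qi, T_p, T_q, T_p] M (Nat.sub (T_p u) (Nat.mod (T_p u) M)) (nat_lit 40) (Nat.mod (T_p u) M) u) (dp_p_1 j u) (Nat.ble (nat_lit 9) j)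
noncomputable def dp_p_3 (j u : ℕ) : Bool :=
  Bool.rec (motive := fun _ => Bool) (lS MG [T_p, T_qi, T_p, T_q, T_pi, T_pi, T_qi, T_p, T_q] M (Nat.sub (T_p u) (Nat.mod (T_p u) M)) (nat_lit 40) (Nat.mod (T_p u) M) u) (lS MG [T_q, T_pi, T_pi, T_qi, T_p, T_q, T_p, T_p, T_qi] M (Nat.sub (T_p u) (Nat.mod (T_p u) M)) (nat_lit 40) (Nat.mod (T_p u) M) u) (Nat.ble (nat_lit 12) j)
noncomputable def dp_p_4 (j u : ℕ) : Bool :=
  Bool.rec (motive := fun _ => Bool) (lS MG [T_z, T_pi, T_zi] M (Nat.sub (T_p u) (Nat.mod (T_p u) M)) (nat_lit 40) (Nat.mod (T_p u) M) u) (lS MG [T_y, T_pi, T_yi] M (Nat.sub (T_p u) (Nat.mod (T_p u) M)) (nat_lit 40) (Nat.mod (T_p u) M) u) (Nat.ble (nat_lit 14) j)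
noncomputable def dp_p_5 (j u : ℕ) : Bool :=
  Bool.rec (motive := fun _ => Bool) (dp_p_3 j u) (dp_p_4 j u) (Nat.ble (nat_lit 13) j)
noncomputable def dp_p_6 (j u : ℕ) : Bool :=
  Bool.rec (motive := fun _ => Bool) (dp_p_2 j u) (dp_p_5 j u) (Nat.ble (nat_lit 11) j)
noncomputable def dp_p_7 (j u : ℕ) : Bool :=
  Bool.rec (motive := fun _ => Bool) (lF [T_qi, T_p, T_q, T_pi, T_pi, T_qi, T_p, T_q, T_p] M (Nat.sub (T_p u) (Nat.mod (T_p u) M)) (Nat.mod (T_p u) M) u) (lF [T_q, T_pi, T_pi, T_qi, T_p, T_q, T_p, T_p, T_qi] M (Nat.sub (T_p u) (Nat.mod (T_p u) M)) (Nat.mod (T_p u) M) u) (Nat.ble (nat_lit 16) j)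
noncomputable def dp_p_8 (j u : ℕ) : Bool :=
  Bool.rec (motive := fun _ => Bool) (lS MG [T_q, T_q, T_p, T_qi, T_pi, T_y, T_q, T_q, T_pi, T_qi] M (Nat.sub (T_p u) (Nat.mod (T_p u) M)) (nat_lit 40) (Nat.mod (T_p u) M) u) (lS MG [T_qi, T_qi, T_yi, T_p, T_q, T_pi, T_qi, T_qi, T_pi, T_q] M (Nat.sub (T_p u) (Nat.mod (T_p u) M)) (nat_lit 40) (Nat.mod (T_p u) M) u) (Nat.ble (nat_lit 19) j)
noncomputable def dp_p_9 (j u : ℕ) : Bool :=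
  Bool.rec (motive := fun _ => Bool) (lS MG [T_qi, T_qi, T_p, T_qi, T_qi, T_p, T_qi, T_qi, T_zi] M (Nat.sub (T_p u) (Nat.mod (T_p u) M)) (nat_lit 40) (Nat.mod (T_p u) M) u) (dp_p_8 j u) (Nat.ble (nat_lit 18) j)
noncomputable def dp_p_10 (j u : ℕ) : Bool :=
  Bool.rec (motive := fun _ => Bool) (dp_p_7 j u) (dp_p_9 j u) (Nat.ble (nat_lit 17) j)
noncomputable def dp_p_11 (j u : ℕ) : Bool :=
  Bool.rec (motive := fun _ => Bool) (lF [T_q, T_q, T_p, T_qi, T_pi, T_y, T_q, T_q, T_pi, T_qi] M (Nat.sub (T_p u) (Nat.mod (T_p u) M)) (Nat.mod (T_p u) M) u) (lF [T_q, T_pi, T_qi, T_qi, T_pi, T_q, T_p, T_qi, T_qi, T_yi] M (Nat.sub (T_p u) (Nat.mod (T_p u) M)) (Nat.mod (T_p u) M) u) (Nat.ble (nat_lit 21) j)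
noncomputable def dp_p_12 (j u : ℕ) : Bool :=
  Bool.rec (motive := fun _ => Bool) (lS MG [T_yi, T_pi, T_y] M (Nat.sub (T_p u) (Nat.mod (T_p u) M)) (nat_lit 40) (Nat.mod (T_p u) M) u) (lF [T_q, T_p, T_p, T_qi, T_p, T_q, T_pi, T_pi, T_qi] M (Nat.sub (T_p u) (Nat.mod (T_p u) M)) (Nat.mod (T_p u) M) u) (Nat.ble (nat_lit 24) j)
noncomputable def dp_p_13 (j u : ℕ) : Bool :=
  Bool.rec (motive := fun _ => Bool) (lF [T_q, T_p, T_qi, T_pi, T_q, T_pi, T_qi, T_pi, T_q, T_p, T_qi] M (Nat.sub (T_p u) (Nat.mod (T_p u) M)) (Nat.mod (T_p u) M) u) (dp_p_12 j u) (Nat.ble (nat_lit 23) j)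
noncomputable def dp_p_14 (j u : ℕ) : Bool :=
  Bool.rec (motive := fun _ => Bool) (dp_p_11 j u) (dp_p_13 j u) (Nat.ble (nat_lit 22) j)
noncomputable def dp_p_15 (j u : ℕ) : Bool :=
  Bool.rec (motive := fun _ => Bool) (lF [T_q, T_pi, T_qi, T_pi, T_q, T_pi, T_qi, T_p, T_q, T_p, T_qi] M (Nat.sub (T_p u) (Nat.mod (T_p u) M)) (Nat.mod (T_p u) M) u) (lF [T_p, T_qi, T_p, T_q, T_pi, T_pi, T_qi, T_p, T_q] M (Nat.sub (T_p u) (Nat.mod (T_p u) M)) (Nat.mod (T_p u) M) u) (Nat.ble (nat_lit 27) j)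
noncomputable def dp_p_16 (j u : ℕ) : Bool :=
  Bool.rec (motive := fun _ => Bool) (lS MG [T_qi, T_pi, T_q, T_pi, T_pi, T_qi, T_pi, T_q, T_p] M (Nat.sub (T_p u) (Nat.mod (T_p u) M)) (nat_lit 40) (Nat.mod (T_p u) M) u) (dp_p_15 j u) (Nat.ble (nat_lit 26) j)
noncomputable def dp_p_17 (j u : ℕ) : Bool :=
  Bool.rec (motive := fun _ => Bool) (lF [T_p, T_qi, T_pi, T_q, T_pi, T_pi, T_qi, T_pi, T_q] M (Nat.sub (T_p u) (Nat.mod (T_p u) M)) (Nat.mod (T_p u) M) u) (lF [T_qi, T_qi, T_p, T_qi, T_qi, T_zi, T_p, T_qi, T_qi] M (Nat.sub (T_p u) (Nat.mod (T_p u) M)) (Nat.mod (T_p u) M) u) (Nat.ble (nat_lit 30) j)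
noncomputable def dp_p_18 (j u : ℕ) : Bool :=
  Bool.rec (motive := fun _ => Bool) (lF [T_qi, T_pi, T_y, T_q, T_q, T_pi, T_qi, T_p, T_q, T_q] M (Nat.sub (T_p u) (Nat.mod (T_p u) M)) (Nat.mod (T_p u) M) u) (dp_p_17 j u) (Nat.ble (nat_lit 29) j)
noncomputable def dp_p_19 (j u : ℕ) : Bool :=
  Bool.rec (motive := fun _ => Bool) (dp_p_16 j u) (dp_p_18 j u) (Nat.ble (nat_lit 28) j)
noncomputable def dp_p_20 (j u : ℕ) : Bool :=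
  Bool.rec (motive := fun _ => Bool) (dp_p_14 j u) (dp_p_19 j u) (Nat.ble (nat_lit 25) j)
noncomputable def dp_p_21 (j u : ℕ) : Bool :=
  Bool.rec (motive := fun _ => Bool) (dp_p_10 j u) (dp_p_20 j u) (Nat.ble (nat_lit 20) j)
noncomputable def dp_p_22 (j u : ℕ) : Bool :=
  Bool.rec (motive := fun _ => Bool) (dp_p_6 j u) (dp_p_21 j u) (Nat.ble (nat_lit 15) j)
noncomputable def dp_p_23 (j u : ℕ) : Bool :=
  Bool.rec (motive := fun _ => Bool) (dp_p_0 j u) (dp_p_22 j u) (Nat.ble (nat_lit 8) j)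
noncomputable def dp_p_24 (j u : ℕ) : Bool :=
  Bool.rec (motive := fun _ => Bool) (Bool.rec (motive := fun _ => Bool) (lF3 T_zi T_pi T_z M (Nat.sub (T_p u) (Nat.mod (T_p u) M)) (Nat.mod (T_p u) M) u) (lF3 T_yi T_pi T_y M (Nat.sub (T_p u) (Nat.mod (T_p u) M)) (Nat.mod (T_p u) M) u) (Nat.ble (nat_lit 5) j)) (dp_p_23 j u) (Nat.ble (nat_lit 6) j)
noncomputable def disp_p (j u : ℕ) : Bool :=
  Bool.rec (motive := fun _ => Bool) (Bool.rec (motive := fun _ => Bool) (lF1 T_pi M (Nat.sub (T_p u) (Nat.mod (T_p u) M)) (Nat.mod (T_p u) M) u) (lDef P (nat_lit 0) (Nat.mod (T_p u) M) u) (Nat.ble (nat_lit 1) j)) (Bool.rec (motive := fun _ => Bool) (Bool.rec (motive := fun _ => Bool) (lDef P (nat_lit 1) u (Nat.mod (T_p u) M)) (lF3 T_z T_pi T_zi M (Nat.sub (T_p u) (Nat.mod (T_p u) M)) (Nat.mod (T_p u) M) u) (Nat.ble (nat_lit 3) j)) (dp_p_24 j u) (Nat.ble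 (nat_lit 4) j)) (Nat.ble (nat_lit 2) j)
noncomputable def chk_p (j u : ℕ) : Bool :=
  Bool.rec (motive := fun _ => Bool) (disp_p j u) (Nat.ble (Nat.succ (MG u)) A) (Nat.ble A (T_p u))
noncomputable def dp_pi_0 (j u : ℕ) : Bool :=
  Bool.rec (motive := fun _ => Bool) (lF [T_q, T_p, T_p, T_qi, T_pi, T_q, T_pi, T_pi, T_qi] M (Nat.sub (T_pi u) (Nat.mod (T_pi u) M)) (Nat.mod (T_pi u) M) u) (lF [T_qi, T_pi, T_q, T_p, T_p, T_qi, T_pi, T_q, T_pi] M (Nat.sub (T_pi u) (Nat.mod (T_pi u) M)) (Nat.mod (T_pi u) M) u) (Nat.ble (nat_lit 9) j)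
noncomputable def dp_pi_1 (j u : ℕ) : Bool :=
  Bool.rec (motive := fun _ => Bool) (lS MG [T_p] M (Nat.sub (T_pi u) (Nat.mod (T_pi u) M)) (nat_lit 40) (Nat.mod (T_pi u) M) u) (dp_pi_0 j u) (Nat.ble (nat_lit 8) j)
noncomputable def dp_pi_2 (j u : ℕ) : Bool :=
  Bool.rec (motive := fun _ => Bool) (lF3 T_yi T_p T_y M (Nat.sub (T_pi u) (Nat.mod (T_pi u) M)) (Nat.mod (T_pi u) M) u) (dp_pi_1 j u) (Nat.ble (nat_lit 7) j)
noncomputable def dp_pi_3 (j u : ℕ) : Bool :=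
  Bool.rec (motive := fun _ => Bool) (lS MG [T_q, T_p, T_p, T_qi, T_pi, T_q, T_pi, T_pi, T_qi] M (Nat.sub (T_pi u) (Nat.mod (T_pi u) M)) (nat_lit 40) (Nat.mod (T_pi u) M) u) (lS MG [T_q, T_q, T_pi, T_q, T_q, T_pi, T_z, T_q, T_q] M (Nat.sub (T_pi u) (Nat.mod (T_pi u) M)) (nat_lit 40) (Nat.mod (T_pi u) M) u) (Nat.ble (nat_lit 12) j)
noncomputable def dp_pi_4 (j u : ℕ) : Bool :=
  Bool.rec (motive := fun _ => Bool) (lF [T_pi, T_qi, T_pi, T_q, T_p, T_p, T_qi, T_pi, T_q] M (Nat.sub (T_pi u) (Nat.mod (T_pi u) M)) (Nat.mod (T_pi u) M) u) (dp_pi_3 j u) (Nat.ble (nat_lit 11) j)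
noncomputable def dp_pi_5 (j u : ℕ) : Bool :=
  Bool.rec (motive := fun _ => Bool) (lS MG [T_q, T_q, T_pi, T_z, T_q, T_q, T_pi, T_q, T_q] M (Nat.sub (T_pi u) (Nat.mod (T_pi u) M)) (nat_lit 40) (Nat.mod (T_pi u) M) u) (lF [T_q, T_q, T_pi, T_q, T_q, T_pi, T_z, T_q, T_q] M (Nat.sub (T_pi u) (Nat.mod (T_pi u) M)) (Nat.mod (T_pi u) M) u) (Nat.ble (nat_lit 14) j)
noncomputable def dp_pi_6 (j u : ℕ) : Bool :=
  Bool.rec (motive := fun _ => Bool) (lS MG [T_pi, T_qi, T_p, T_q, T_p, T_p, T_qi, T_p, T_q] M (Nat.sub (T_pi u) (Nat.mod (T_pi u) M)) (nat_lit 40) (Nat.mod (T_pi u) M) u) (lS MG [T_qi, T_p, T_q, T_p, T_p, T_qi, T_p, T_q, T_pi] M (Nat.sub (T_pi u) (Nat.mod (T_pi u) M)) (nat_lit 40) (Nat.mod (T_pi u) M) u) (Nat.ble (nat_lit 16) j)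
noncomputable def dp_pi_7 (j u : ℕ) : Bool :=
  Bool.rec (motive := fun _ => Bool) (dp_pi_5 j u) (dp_pi_6 j u) (Nat.ble (nat_lit 15) j)
noncomputable def dp_pi_8 (j u : ℕ) : Bool :=
  Bool.rec (motive := fun _ => Bool) (dp_pi_4 j u) (dp_pi_7 j u) (Nat.ble (nat_lit 13) j)
noncomputable def dp_pi_9 (j u : ℕ) : Bool :=
  Bool.rec (motive := fun _ => Bool) (lF [T_qi, T_p, T_q, T_q, T_p, T_qi, T_pi, T_y, T_q, T_q] M (Nat.sub (T_pi u) (Nat.mod (T_pi u) M)) (Nat.mod (T_pi u) M) u) (lS MG [T_qi, T_qi, T_pi, T_q, T_p, T_qi, T_qi, T_yi, T_p, T_q] M (Nat.sub (T_pi u) (Nat.mod (T_pi u) M)) (nat_lit 40) (Nat.mod (T_pi u) M) u) (Nat.ble (nat_lit 19) j)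
noncomputable def dp_pi_10 (j u : ℕ) : Bool :=
  Bool.rec (motive := fun _ => Bool) (lS MG [T_qi, T_pi, T_q, T_p, T_p, T_qi, T_pi, T_q, T_pi] M (Nat.sub (T_pi u) (Nat.mod (T_pi u) M)) (nat_lit 40) (Nat.mod (T_pi u) M) u) (dp_pi_9 j u) (Nat.ble (nat_lit 18) j)
noncomputable def dp_pi_11 (j u : ℕ) : Bool :=
  Bool.rec (motive := fun _ => Bool) (lS MG [T_zi, T_p, T_z] M (Nat.sub (T_pi u) (Nat.mod (T_pi u) M)) (nat_lit 40) (Nat.mod (T_pi u) M) u) (lF [T_q, T_pi, T_pi, T_qi, T_pi, T_q, T_p, T_p, T_qi] M (Nat.sub (T_pi u) (Nat.mod (T_pi u) M)) (Nat.mod (T_pi u) M) u) (Nat.ble (nat_lit 22) j)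
noncomputable def dp_pi_12 (j u : ℕ) : Bool :=
  Bool.rec (motive := fun _ => Bool) (lF [T_y, T_q, T_q, T_pi, T_qi, T_p, T_q, T_q, T_p, T_qi] M (Nat.sub (T_pi u) (Nat.mod (T_pi u) M)) (Nat.mod (T_pi u) M) u) (dp_pi_11 j u) (Nat.ble (nat_lit 21) j)
noncomputable def dp_pi_13 (j u : ℕ) : Bool :=
  Bool.rec (motive := fun _ => Bool) (dp_pi_10 j u) (dp_pi_12 j u) (Nat.ble (nat_lit 20) j)
noncomputable def dp_pi_14 (j u : ℕ) : Bool :=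
  Bool.rec (motive := fun _ => Bool) (lS MG [T_y, T_p, T_yi] M (Nat.sub (T_pi u) (Nat.mod (T_pi u) M)) (nat_lit 40) (Nat.mod (T_pi u) M) u) (lF [T_q, T_p, T_qi, T_p, T_q, T_p, T_qi, T_pi, T_q, T_pi, T_qi] M (Nat.sub (T_pi u) (Nat.mod (T_pi u) M)) (Nat.mod (T_pi u) M) u) (Nat.ble (nat_lit 25) j)
noncomputable def dp_pi_15 (j u : ℕ) : Bool :=
  Bool.rec (motive := fun _ => Bool) (lF [T_q, T_q, T_pi, T_z, T_q, T_q, T_pi, T_q, T_q] M (Nat.sub (T_pi u) (Nat.mod (T_pi u) M)) (Nat.mod (T_pi u) M) u) (dp_pi_14 j u) (Nat.ble (nat_lit 24) j)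
noncomputable def dp_pi_16 (j u : ℕ) : Bool :=
  Bool.rec (motive := fun _ => Bool) (lS MG [T_z, T_p, T_zi] M (Nat.sub (T_pi u) (Nat.mod (T_pi u) M)) (nat_lit 40) (Nat.mod (T_pi u) M) u) (lF [T_qi, T_qi, T_pi, T_q, T_p, T_qi, T_qi, T_yi, T_p, T_q] M (Nat.sub (T_pi u) (Nat.mod (T_pi u) M)) (Nat.mod (T_pi u) M) u) (Nat.ble (nat_lit 28) j)
noncomputable def dp_pi_17 (j u : ℕ) : Bool :=
  Bool.rec (motive := fun _ => Bool) (lF [T_qi, T_p, T_q, T_p, T_p, T_qi, T_p, T_q, T_pi] M (Nat.sub (T_pi u) (Nat.mod (T_pi u) M)) (Nat.mod (T_pi u) M) u) (dp_pi_16 j u) (Nat.ble (nat_lit 27) j)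
noncomputable def dp_pi_18 (j u : ℕ) : Bool :=
  Bool.rec (motive := fun _ => Bool) (dp_pi_15 j u) (dp_pi_17 j u) (Nat.ble (nat_lit 26) j)
noncomputable def dp_pi_19 (j u : ℕ) : Bool :=
  Bool.rec (motive := fun _ => Bool) (lS MG [T_q, T_p, T_qi, T_qi, T_yi, T_p, T_q, T_pi, T_qi, T_qi] M (Nat.sub (T_pi u) (Nat.mod (T_pi u) M)) (nat_lit 40) (Nat.mod (T_pi u) M) u) (lS MG [T_q, T_pi, T_pi, T_qi, T_pi, T_q, T_p, T_p, T_qi] M (Nat.sub (T_pi u) (Nat.mod (T_pi u) M)) (nat_lit 40) (Nat.mod (T_pi u) M) u) (Nat.ble (nat_lit 31) j)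
noncomputable def dp_pi_20 (j u : ℕ) : Bool :=
  Bool.rec (motive := fun _ => Bool) (lS MG [T_pi, T_qi, T_pi, T_q, T_p, T_p, T_qi, T_pi, T_q] M (Nat.sub (T_pi u) (Nat.mod (T_pi u) M)) (nat_lit 40) (Nat.mod (T_pi u) M) u) (dp_pi_19 j u) (Nat.ble (nat_lit 30) j)
noncomputable def dp_pi_21 (j u : ℕ) : Bool :=
  Bool.rec (motive := fun _ => Bool) (lS MG [T_z, T_q, T_q, T_pi, T_q, T_q, T_pi, T_q, T_q] M (Nat.sub (T_pi u) (Nat.mod (T_pi u) M)) (nat_lit 40) (Nat.mod (T_pi u) M) u) (lF [T_qi, T_pi, T_q, T_pi, T_qi, T_p, T_q, T_p, T_qi, T_p, T_q] M (Nat.sub (T_pi u) (Nat.mod (T_pi u) M)) (Nat.mod (T_pi u) M) u) (Nat.ble (nat_lit 34) j)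
noncomputable def dp_pi_22 (j u : ℕ) : Bool :=
  Bool.rec (motive := fun _ => Bool) (lS MG [T_y, T_q, T_q, T_pi, T_qi, T_p, T_q, T_q, T_p, T_qi] M (Nat.sub (T_pi u) (Nat.mod (T_pi u) M)) (nat_lit 40) (Nat.mod (T_pi u) M) u) (dp_pi_21 j u) (Nat.ble (nat_lit 33) j)
noncomputable def dp_pi_23 (j u : ℕ) : Bool :=
  Bool.rec (motive := fun _ => Bool) (dp_pi_20 j u) (dp_pi_22 j u) (Nat.ble (nat_lit 32) j)
noncomputable def dp_pi_24 (j u : ℕ) : Bool :=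
  Bool.rec (motive := fun _ => Bool) (dp_pi_18 j u) (dp_pi_23 j u) (Nat.ble (nat_lit 29) j)
noncomputable def dp_pi_25 (j u : ℕ) : Bool :=
  Bool.rec (motive := fun _ => Bool) (dp_pi_13 j u) (dp_pi_24 j u) (Nat.ble (nat_lit 23) j)
noncomputable def dp_pi_26 (j u : ℕ) : Bool :=
  Bool.rec (motive := fun _ => Bool) (dp_pi_8 j u) (dp_pi_25 j u) (Nat.ble (nat_lit 17) j)
noncomputable def dp_pi_27 (j u : ℕ) : Bool :=
  Bool.rec (motive := fun _ => Bool) (dp_pi_2 j u) (dp_pi_26 j u) (Nat.ble (nat_lit 10) j)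
noncomputable def dp_pi_28 (j u : ℕ) : Bool :=
  Bool.rec (motive := fun _ => Bool) (Bool.rec (motive := fun _ => Bool) (lF3 T_z T_p T_zi M (Nat.sub (T_pi u) (Nat.mod (T_pi u) M)) (Nat.mod (T_pi u) M) u) (lF3 T_y T_p T_yi M (Nat.sub (T_pi u) (Nat.mod (T_pi u) M)) (Nat.mod (T_pi u) M) u) (Nat.ble (nat_lit 5) j)) (dp_pi_27 j u) (Nat.ble (nat_lit 6) j)
noncomputable def disp_pi (j u : ℕ) : Bool :=
  Bool.rec (motive := fun _ => Bool) (Bool.rec (motive := fun _ => Bool) (lF1 T_p M (Nat.sub (T_pi u) (Nat.mod (T_pi u) M)) (Nat.mod (T_pi u) M) u) (lDef P (nat_lit 0) u (Nat.mod (T_pi u) M)) (Nat.ble (nat_lit 1) j)) (Bool.rec (motive := fun _ => Bool) (Bool.rec (motive := fun _ => Bool) (lDef P (nat_lit 1) (Nat.mod (T_pi u) M) u) (lF3 T_zi T_p T_z M (Nat.sub (T_pi u) (Nat.mod (T_pi u) M)) (Nat.mod (T_pi u) M) u) (Nat.ble (nat_lit 3) j)) (dp_pi_28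 j u) (Nat.ble (nat_lit 4) j)) (Nat.ble (nat_lit 2) j)
noncomputable def chk_pi (j u : ℕ) : Bool :=
  Bool.rec (motive := fun _ => Bool) (disp_pi j u) (Nat.ble (Nat.succ (MG u)) A) (Nat.ble A (T_pi u))
noncomputable def dp_q_0 (j u : ℕ) : Bool :=
  Bool.rec (motive := fun _ => Bool) (lF3 T_yi T_qi T_y M (Nat.sub (T_q u) (Nat.mod (T_q u) M)) (Nat.mod (T_q u) M) u) (lF3 T_y T_qi T_yi M (Nat.sub (T_q u) (Nat.mod (T_q u) M)) (Nat.mod (T_q u) M) u) (Nat.ble (nat_lit 6) j)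
noncomputable def dp_q_1 (j u : ℕ) : Bool :=
  Bool.rec (motive := fun _ => Bool) (lS MG [T_qi] M (Nat.sub (T_q u) (Nat.mod (T_q u) M)) (nat_lit 40) (Nat.mod (T_q u) M) u) (lS MG [T_z, T_qi, T_zi] M (Nat.sub (T_q u) (Nat.mod (T_q u) M)) (nat_lit 40) (Nat.mod (T_q u) M) u) (Nat.ble (nat_lit 8) j)
noncomputable def dp_q_2 (j u : ℕ) : Bool :=
  Bool.rec (motive := fun _ => Bool) (lS MG [T_p, T_qi, T_qi, T_yi, T_p, T_q, T_pi, T_qi, T_qi, T_pi] M (Nat.sub (T_q u) (Nat.mod (T_q u) M)) (nat_lit 40) (Nat.mod (T_q u) M) u) (lS MG [T_zi, T_qi, T_z] M (Nat.sub (T_q u) (Nat.mod (T_q u) M)) (nat_lit 40) (Nat.mod (T_q u) M) u) (Nat.ble (nat_lit 11) j)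
noncomputable def dp_q_3 (j u : ℕ) : Bool :=
  Bool.rec (motive := fun _ => Bool) (lF [T_p, T_p, T_qi, T_p, T_q, T_pi, T_pi, T_qi, T_p] M (Nat.sub (T_q u) (Nat.mod (T_q u) M)) (Nat.mod (T_q u) M) u) (dp_q_2 j u) (Nat.ble (nat_lit 10) j)
noncomputable def dp_q_4 (j u : ℕ) : Bool :=
  Bool.rec (motive := fun _ => Bool) (lS MG [T_pi, T_pi, T_qi, T_p, T_q, T_p, T_p, T_qi, T_p] M (Nat.sub (T_q u) (Nat.mod (T_q u) M)) (nat_lit 40) (Nat.mod (T_q u) M) u) (lS MG [T_p, T_p, T_qi, T_pi, T_q, T_pi, T_pi, T_qi, T_pi] M (Nat.sub (T_q u) (Nat.mod (T_q u) M)) (nat_lit 40) (Nat.mod (T_q u) M) u) (Nat.ble (nat_lit 14) j)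
noncomputable def dp_q_5 (j u : ℕ) : Bool :=
  Bool.rec (motive := fun _ => Bool) (lS MG [T_q, T_pi, T_q, T_q, T_pi, T_q, T_q, T_pi, T_z] M (Nat.sub (T_q u) (Nat.mod (T_q u) M)) (nat_lit 40) (Nat.mod (T_q u) M) u) (dp_q_4 j u) (Nat.ble (nat_lit 13) j)
noncomputable def dp_q_6 (j u : ℕ) : Bool :=
  Bool.rec (motive := fun _ => Bool) (dp_q_3 j u) (dp_q_5 j u) (Nat.ble (nat_lit 12) j)
noncomputable def dp_q_7 (j u : ℕ) : Bool :=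
  Bool.rec (motive := fun _ => Bool) (dp_q_1 j u) (dp_q_6 j u) (Nat.ble (nat_lit 9) j)
noncomputable def dp_q_8 (j u : ℕ) : Bool :=
  Bool.rec (motive := fun _ => Bool) (lS MG [T_pi, T_q, T_q, T_pi, T_z, T_q, T_q, T_pi, T_q] M (Nat.sub (T_q u) (Nat.mod (T_q u) M)) (nat_lit 40) (Nat.mod (T_q u) M) u) (lF [T_pi, T_q, T_q, T_pi, T_q, T_q, T_pi, T_z, T_q] M (Nat.sub (T_q u) (Nat.mod (T_q u) M)) (Nat.mod (T_q u) M) u) (Nat.ble (nat_lit 16) j)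
noncomputable def dp_q_9 (j u : ℕ) : Bool :=
  Bool.rec (motive := fun _ => Bool) (lF [T_pi, T_pi, T_qi, T_p, T_q, T_p, T_p, T_qi, T_p] M (Nat.sub (T_q u) (Nat.mod (T_q u) M)) (Nat.mod (T_q u) M) u) (lS MG [T_y, T_qi, T_yi] M (Nat.sub (T_q u) (Nat.mod (T_q u) M)) (nat_lit 40) (Nat.mod (T_q u) M) u) (Nat.ble (nat_lit 18) j)
noncomputable def dp_q_10 (j u : ℕ) : Bool :=
  Bool.rec (motive := fun _ => Bool) (dp_q_8 j u) (dp_q_9 j u) (Nat.ble (nat_lit 17) j)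
noncomputable def dp_q_11 (j u : ℕ) : Bool :=
  Bool.rec (motive := fun _ => Bool) (lF [T_p, T_p, T_qi, T_pi, T_q, T_pi, T_pi, T_qi, T_pi] M (Nat.sub (T_q u) (Nat.mod (T_q u) M)) (Nat.mod (T_q u) M) u) (lS MG [T_q, T_pi, T_z, T_q, T_q, T_pi, T_q, T_q, T_pi] M (Nat.sub (T_q u) (Nat.mod (T_q u) M)) (nat_lit 40) (Nat.mod (T_q u) M) u) (Nat.ble (nat_lit 20) j)
noncomputable def dp_q_12 (j u : ℕ) : Bool :=
  Bool.rec (motive := fun _ => Bool) (lS MG [T_pi, T_q, T_q, T_pi, T_q, T_q, T_pi, T_z, T_q] M (Nat.sub (T_q u) (Nat.mod (T_q u) M)) (nat_lit 40) (Nat.mod (T_q u) M) u) (lF [T_q, T_pi, T_z, T_q, T_q, T_pi, T_q, T_q, T_pi] M (Nat.sub (T_q u) (Nat.mod (T_q u) M)) (Nat.mod (T_q u) M) u) (Nat.ble (nat_lit 22) j)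
noncomputable def dp_q_13 (j u : ℕ) : Bool :=
  Bool.rec (motive := fun _ => Bool) (dp_q_11 j u) (dp_q_12 j u) (Nat.ble (nat_lit 21) j)
noncomputable def dp_q_14 (j u : ℕ) : Bool :=
  Bool.rec (motive := fun _ => Bool) (dp_q_10 j u) (dp_q_13 j u) (Nat.ble (nat_lit 19) j)
noncomputable def dp_q_15 (j u : ℕ) : Bool :=
  Bool.rec (motive := fun _ => Bool) (lS MG [T_p, T_p, T_qi, T_p, T_q, T_pi, T_pi, T_qi, T_p] M (Nat.sub (T_q u) (Nat.mod (T_q u) M)) (nat_lit 40) (Nat.mod (T_q u) M) u) (lS MG [T_pi, T_z, T_q, T_q, T_pi, T_q, T_q, T_pi, T_q] M (Nat.sub (T_q u) (Nat.mod (T_q u) M)) (nat_lit 40) (Nat.mod (T_q u) M) u) (Nat.ble (nat_lit 24) j)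
noncomputable def dp_q_16 (j u : ℕ) : Bool :=
  Bool.rec (motive := fun _ => Bool) (lH [] [] M (Nat.sub (T_q u) (Nat.mod (T_q u) M)) (Nat.mod (T_q u) M) u) (lF [T_pi, T_pi, T_qi, T_pi, T_q, T_p, T_p, T_qi, T_pi] M (Nat.sub (T_q u) (Nat.mod (T_q u) M)) (Nat.mod (T_q u) M) u) (Nat.ble (nat_lit 26) j)
noncomputable def dp_q_17 (j u : ℕ) : Bool :=
  Bool.rec (motive := fun _ => Bool) (lF [T_q, T_pi, T_q, T_q, T_pi, T_q, T_q, T_pi, T_z] M (Nat.sub (T_q u) (Nat.mod (T_q u) M)) (Nat.mod (T_q u) M) u) (lS MG [T_yi, T_qi, T_y] M (Nat.sub (T_q u) (Nat.mod (T_q u) M)) (nat_lit 40) (Nat.mod (T_q u) M) u) (Nat.ble (nat_lit 28) j)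
noncomputable def dp_q_18 (j u : ℕ) : Bool :=
  Bool.rec (motive := fun _ => Bool) (dp_q_16 j u) (dp_q_17 j u) (Nat.ble (nat_lit 27) j)
noncomputable def dp_q_19 (j u : ℕ) : Bool :=
  Bool.rec (motive := fun _ => Bool) (dp_q_15 j u) (dp_q_18 j u) (Nat.ble (nat_lit 25) j)
noncomputable def dp_q_20 (j u : ℕ) : Bool :=
  Bool.rec (motive := fun _ => Bool) (lF [T_q, T_pi, T_qi, T_p, T_q, T_q, T_p, T_qi, T_pi, T_y] M (Nat.sub (T_q u) (Nat.mod (T_q u) M)) (Nat.mod (T_q u) M) u) (lF [T_p, T_qi, T_pi, T_y, T_q, T_q, T_pi, T_qi, T_p, T_q] M (Nat.sub (T_q u) (Nat.mod (T_q u) M)) (Nat.mod (T_q u) M) u) (Nat.ble (nat_lit 30) j)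
noncomputable def dp_q_21 (j u : ℕ) : Bool :=
  Bool.rec (motive := fun _ => Bool) (lF [T_pi, T_qi, T_qi, T_pi, T_q, T_p, T_qi, T_qi, T_yi, T_p] M (Nat.sub (T_q u) (Nat.mod (T_q u) M)) (Nat.mod (T_q u) M) u) (lS MG [T_q, T_p, T_qi, T_pi, T_qi, T_qi, T_p, T_qi, T_pi, T_qi, T_pi, T_qi, T_p, T_q, T_p, T_q, T_pi] M (Nat.sub (T_q u) (Nat.mod (T_q u) M)) (nat_lit 40) (Nat.mod (T_q u) M) u) (Nat.ble (nat_lit 32) j)
noncomputable def dp_q_22 (j u : ℕ) : Bool :=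
  Bool.rec (motive := fun _ => Bool) (dp_q_20 j u) (dp_q_21 j u) (Nat.ble (nat_lit 31) j)
noncomputable def dp_q_23 (j u : ℕ) : Bool :=
  Bool.rec (motive := fun _ => Bool) (lS MG [T_pi, T_qi, T_p, T_q, T_q, T_p, T_qi, T_pi, T_y, T_q] M (Nat.sub (T_q u) (Nat.mod (T_q u) M)) (nat_lit 40) (Nat.mod (T_q u) M) u) (lS MG [T_pi, T_qi, T_qi, T_pi, T_q, T_p, T_qi, T_qi, T_yi, T_p] M (Nat.sub (T_q u) (Nat.mod (T_q u) M)) (nat_lit 40) (Nat.mod (T_q u) M) u) (Nat.ble (nat_lit 34) j)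
noncomputable def dp_q_24 (j u : ℕ) : Bool :=
  Bool.rec (motive := fun _ => Bool) (lS MG [T_p, T_q, T_pi, T_qi, T_qi, T_p, T_qi, T_pi, T_qi, T_pi, T_q, T_p, T_q, T_p, T_q, T_pi, T_q] M (Nat.sub (T_q u) (Nat.mod (T_q u) M)) (nat_lit 40) (Nat.mod (T_q u) M) u) (lF [T_pi, T_qi, T_qi, T_p, T_qi, T_pi, T_qi, T_pi, T_q, T_p, T_q, T_p, T_q, T_pi, T_q, T_q, T_p] M (Nat.sub (T_q u) (Nat.mod (T_q u) M)) (Nat.mod (T_q u) M) u) (Nat.ble (nat_lit 37) j)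
noncomputable def dp_q_25 (j u : ℕ) : Bool :=
  Bool.rec (motive := fun _ => Bool) (lS MG [T_q, T_pi, T_q, T_q, T_pi, T_z, T_q, T_q, T_pi] M (Nat.sub (T_q u) (Nat.mod (T_q u) M)) (nat_lit 40) (Nat.mod (T_q u) M) u) (dp_q_24 j u) (Nat.ble (nat_lit 36) j)
noncomputable def dp_q_26 (j u : ℕ) : Bool :=
  Bool.rec (motive := fun _ => Bool) (dp_q_23 j u) (dp_q_25 j u) (Nat.ble (nat_lit 35) j)
noncomputable def dp_q_27 (j u : ℕ) : Bool :=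
  Bool.rec (motive := fun _ => Bool) (dp_q_22 j u) (dp_q_26 j u) (Nat.ble (nat_lit 33) j)
noncomputable def dp_q_28 (j u : ℕ) : Bool :=
  Bool.rec (motive := fun _ => Bool) (dp_q_19 j u) (dp_q_27 j u) (Nat.ble (nat_lit 29) j)
noncomputable def dp_q_29 (j u : ℕ) : Bool :=
  Bool.rec (motive := fun _ => Bool) (dp_q_14 j u) (dp_q_28 j u) (Nat.ble (nat_lit 23) j)
noncomputable def dp_q_30 (j u : ℕ) : Bool :=
  Bool.rec (motive := fun _ => Bool) (dp_q_7 j u) (dp_q_29 j u) (Nat.ble (nat_lit 15) j)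
noncomputable def dp_q_31 (j u : ℕ) : Bool :=
  Bool.rec (motive := fun _ => Bool) (dp_q_0 j u) (dp_q_30 j u) (Nat.ble (nat_lit 7) j)
noncomputable def disp_q (j u : ℕ) : Bool :=
  Bool.rec (motive := fun _ => Bool) (Bool.rec (motive := fun _ => Bool) (lF1 T_qi M (Nat.sub (T_q u) (Nat.mod (T_q u) M)) (Nat.mod (T_q u) M) u) (lDef P (nat_lit 3) u (Nat.mod (T_q u) M)) (Nat.ble (nat_lit 1) j)) (Bool.rec (motive := fun _ => Bool) (Bool.rec (motive := fun _ => Bool) (lDef P (nat_lit 2) (Nat.mod (T_q u) M) u) (Bool.rec (motive := fun _ => Bool) (lF3 T_z T_qi T_zi M (Nat.sub (T_q u) (Nat.mod (T_q u) M)) (Nat.mod (T_q u) M) u) (lF3 T_zi T_qi T_z M (Nat.sub (T_q u) (Nat.mod (T_q u) M)) (Nat.mod (T_q u) M) u) (Nat.ble (nat_lit 4) j)) (Nat.ble (nat_lit 3) j)) (dp_q_31 j u) (Nat.ble (nat_lit 5) j)) (Nat.ble (nat_lit 2) j)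
noncomputable def chk_q (j u : ℕ) : Bool :=
  Bool.rec (motive := fun _ => Bool) (disp_q j u) (Nat.ble (Nat.succ (MG u)) A) (Nat.ble A (T_q u))
noncomputable def dp_qi_0 (j u : ℕ) : Bool :=
  Bool.rec (motive := fun _ => Bool) (lS MG [T_q] M (Nat.sub (T_qi u) (Nat.mod (T_qi u) M)) (nat_lit 40) (Nat.mod (T_qi u) M) u) (lS MG [T_pi, T_q, T_p, T_qi, T_qi, T_yi, T_p, T_q, T_pi, T_qi] M (Nat.sub (T_qi u) (Nat.mod (T_qi u) M)) (nat_lit 40) (Nat.mod (T_qi u) M) u) (Nat.ble (nat_lit 8) j)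
noncomputable def dp_qi_1 (j u : ℕ) : Bool :=
  Bool.rec (motive := fun _ => Bool) (lS MG [T_p, T_q, T_p, T_p, T_qi, T_p, T_q, T_pi, T_pi] M (Nat.sub (T_qi u) (Nat.mod (T_qi u) M)) (nat_lit 40) (Nat.mod (T_qi u) M) u) (lS MG [T_pi, T_q, T_p, T_p, T_qi, T_pi, T_q, T_pi, T_pi] M (Nat.sub (T_qi u) (Nat.mod (T_qi u) M)) (nat_lit 40) (Nat.mod (T_qi u) M) u) (Nat.ble (nat_lit 10) j)
noncomputable def dp_qi_2 (j u : ℕ) : Bool :=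
  Bool.rec (motive := fun _ => Bool) (lS MG [T_qi, T_p, T_qi, T_qi, T_p, T_qi, T_qi, T_zi, T_p] M (Nat.sub (T_qi u) (Nat.mod (T_qi u) M)) (nat_lit 40) (Nat.mod (T_qi u) M) u) (lF [T_p, T_qi, T_qi, T_zi, T_p, T_qi, T_qi, T_p, T_qi] M (Nat.sub (T_qi u) (Nat.mod (T_qi u) M)) (Nat.mod (T_qi u) M) u) (Nat.ble (nat_lit 13) j)
noncomputable def dp_qi_3 (j u : ℕ) : Bool :=
  Bool.rec (motive := fun _ => Bool) (lS MG [T_p, T_qi, T_qi, T_zi, T_p, T_qi, T_qi, T_p, T_qi] M (Nat.sub (T_qi u) (Nat.mod (T_qi u) M)) (nat_lit 40) (Nat.mod (T_qi u) M) u) (dp_qi_2 j u) (Nat.ble (nat_lit 12) j)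
noncomputable def dp_qi_4 (j u : ℕ) : Bool :=
  Bool.rec (motive := fun _ => Bool) (dp_qi_1 j u) (dp_qi_3 j u) (Nat.ble (nat_lit 11) j)
noncomputable def dp_qi_5 (j u : ℕ) : Bool :=
  Bool.rec (motive := fun _ => Bool) (dp_qi_0 j u) (dp_qi_4 j u) (Nat.ble (nat_lit 9) j)
noncomputable def dp_qi_6 (j u : ℕ) : Bool :=
  Bool.rec (motive := fun _ => Bool) (lS MG [T_yi, T_q, T_y] M (Nat.sub (T_qi u) (Nat.mod (T_qi u) M)) (nat_lit 40) (Nat.mod (T_qi u) M) u) (lF [T_p, T_q, T_pi, T_pi, T_qi, T_p, T_q, T_p, T_p] M (Nat.sub (T_qi u) (Nat.mod (T_qi u) M)) (Nat.mod (T_qi u) M) u) (Nat.ble (nat_lit 15) j)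
noncomputable def dp_qi_7 (j u : ℕ) : Bool :=
  Bool.rec (motive := fun _ => Bool) (lS MG [T_p, T_qi, T_qi, T_p, T_qi, T_qi, T_zi, T_p, T_qi] M (Nat.sub (T_qi u) (Nat.mod (T_qi u) M)) (nat_lit 40) (Nat.mod (T_qi u) M) u) (lF [T_qi, T_zi, T_p, T_qi, T_qi, T_p, T_qi, T_qi, T_p] M (Nat.sub (T_qi u) (Nat.mod (T_qi u) M)) (Nat.mod (T_qi u) M) u) (Nat.ble (nat_lit 17) j)
noncomputable def dp_qi_8 (j u : ℕ) : Bool :=
  Bool.rec (motive := fun _ => Bool) (dp_qi_6 j u) (dp_qi_7 j u) (Nat.ble (nat_lit 16) j)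
noncomputable def dp_qi_9 (j u : ℕ) : Bool :=
  Bool.rec (motive := fun _ => Bool) (lF [T_qi, T_p, T_qi, T_qi, T_p, T_qi, T_qi, T_zi, T_p] M (Nat.sub (T_qi u) (Nat.mod (T_qi u) M)) (Nat.mod (T_qi u) M) u) (lS MG [T_qi, T_zi, T_p, T_qi, T_qi, T_p, T_qi, T_qi, T_p] M (Nat.sub (T_qi u) (Nat.mod (T_qi u) M)) (nat_lit 40) (Nat.mod (T_qi u) M) u) (Nat.ble (nat_lit 19) j)
noncomputable def dp_qi_10 (j u : ℕ) : Bool :=
  Bool.rec (motive := fun _ => Bool) (lF [T_p, T_q, T_p, T_p, T_qi, T_p, T_q, T_pi, T_pi] M (Nat.sub (T_qi u) (Nat.mod (T_qi u) M)) (Nat.mod (T_qi u) M) u) (lS MG [T_pi, T_q, T_pi, T_pi, T_qi, T_pi, T_q, T_p, T_p] M (Nat.sub (T_qi u) (Nat.mod (T_qi u) M)) (nat_lit 40) (Nat.mod (T_qi u) M) u) (Nat.ble (nat_lit 22) j)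
noncomputable def dp_qi_11 (j u : ℕ) : Bool :=
  Bool.rec (motive := fun _ => Bool) (lS MG [T_yi, T_p, T_q, T_pi, T_qi, T_qi, T_pi, T_q, T_p, T_qi] M (Nat.sub (T_qi u) (Nat.mod (T_qi u) M)) (nat_lit 40) (Nat.mod (T_qi u) M) u) (dp_qi_10 j u) (Nat.ble (nat_lit 21) j)
noncomputable def dp_qi_12 (j u : ℕ) : Bool :=
  Bool.rec (motive := fun _ => Bool) (dp_qi_9 j u) (dp_qi_11 j u) (Nat.ble (nat_lit 20) j)
noncomputable def dp_qi_13 (j u : ℕ) : Bool :=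
  Bool.rec (motive := fun _ => Bool) (dp_qi_8 j u) (dp_qi_12 j u) (Nat.ble (nat_lit 18) j)
noncomputable def dp_qi_14 (j u : ℕ) : Bool :=
  Bool.rec (motive := fun _ => Bool) (lF [T_pi, T_y, T_q, T_q, T_pi, T_qi, T_p, T_q, T_q, T_p] M (Nat.sub (T_qi u) (Nat.mod (T_qi u) M)) (Nat.mod (T_qi u) M) u) (lS MG [T_z, T_q, T_zi] M (Nat.sub (T_qi u) (Nat.mod (T_qi u) M)) (nat_lit 40) (Nat.mod (T_qi u) M) u) (Nat.ble (nat_lit 25) j)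
noncomputable def dp_qi_15 (j u : ℕ) : Bool :=
  Bool.rec (motive := fun _ => Bool) (lS MG [T_qi, T_p, T_qi, T_qi, T_zi, T_p, T_qi, T_qi, T_p] M (Nat.sub (T_qi u) (Nat.mod (T_qi u) M)) (nat_lit 40) (Nat.mod (T_qi u) M) u) (dp_qi_14 j u) (Nat.ble (nat_lit 24) j)
noncomputable def dp_qi_16 (j u : ℕ) : Bool :=
  Bool.rec (motive := fun _ => Bool) (lF [T_pi, T_q, T_pi, T_qi, T_pi, T_q, T_p, T_qi, T_p, T_q, T_p] M (Nat.sub (T_qi u) (Nat.mod (T_qi u) M)) (Nat.mod (T_qi u) M) u) (lF [T_p, T_q, T_p, T_qi, T_pi, T_q, T_pi, T_qi, T_pi, T_q, T_p] M (Nat.sub (T_qi u) (Nat.mod (T_qi u) M)) (Nat.mod (T_qi u) M) u) (Nat.ble (nat_lit 27) j)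
noncomputable def dp_qi_17 (j u : ℕ) : Bool :=
  Bool.rec (motive := fun _ => Bool) (lF [T_p, T_q, T_pi, T_qi, T_pi, T_q, T_pi, T_qi, T_p, T_q, T_p] M (Nat.sub (T_qi u) (Nat.mod (T_qi u) M)) (Nat.mod (T_qi u) M) u) (lF [T_qi, T_pi, T_q, T_p, T_qi, T_qi, T_yi, T_p, T_q, T_pi] M (Nat.sub (T_qi u) (Nat.mod (T_qi u) M)) (Nat.mod (T_qi u) M) u) (Nat.ble (nat_lit 29) j)
noncomputable def dp_qi_18 (j u : ℕ) : Bool :=
  Bool.rec (motive := fun _ => Bool) (dp_qi_16 j u) (dp_qi_17 j u) (Nat.ble (nat_lit 28) j)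
noncomputable def dp_qi_19 (j u : ℕ) : Bool :=
  Bool.rec (motive := fun _ => Bool) (dp_qi_15 j u) (dp_qi_18 j u) (Nat.ble (nat_lit 26) j)
noncomputable def dp_qi_20 (j u : ℕ) : Bool :=
  Bool.rec (motive := fun _ => Bool) (lS MG [T_zi, T_q, T_z] M (Nat.sub (T_qi u) (Nat.mod (T_qi u) M)) (nat_lit 40) (Nat.mod (T_qi u) M) u) (lF [T_pi, T_qi, T_p, T_q, T_p, T_q, T_pi, T_q, T_q, T_p, T_qi, T_pi, T_qi, T_qi, T_p, T_qi, T_pi] M (Nat.sub (T_qi u) (Nat.mod (T_qi u) M)) (Nat.mod (T_qi u) M) u) (Nat.ble (nat_lit 31) j)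
noncomputable def dp_qi_21 (j u : ℕ) : Bool :=
  Bool.rec (motive := fun _ => Bool) (lF [T_p, T_q, T_q, T_p, T_qi, T_pi, T_y, T_q, T_q, T_pi] M (Nat.sub (T_qi u) (Nat.mod (T_qi u) M)) (Nat.mod (T_qi u) M) u) (lS MG [T_qi, T_yi, T_p, T_q, T_pi, T_qi, T_qi, T_pi, T_q, T_p] M (Nat.sub (T_qi u) (Nat.mod (T_qi u) M)) (nat_lit 40) (Nat.mod (T_qi u) M) u) (Nat.ble (nat_lit 33) j)
noncomputable def dp_qi_22 (j u : ℕ) : Bool :=
  Bool.rec (motive := fun _ => Bool) (dp_qi_20 j u) (dp_qi_21 j u) (Nat.ble (nat_lit 32) j)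
noncomputable def dp_qi_23 (j u : ℕ) : Bool :=
  Bool.rec (motive := fun _ => Bool) (lF [T_pi, T_q, T_pi, T_pi, T_qi, T_pi, T_q, T_p, T_p] M (Nat.sub (T_qi u) (Nat.mod (T_qi u) M)) (Nat.mod (T_qi u) M) u) (lS MG [T_qi, T_pi, T_q, T_p, T_qi, T_qi, T_yi, T_p, T_q, T_pi] M (Nat.sub (T_qi u) (Nat.mod (T_qi u) M)) (nat_lit 40) (Nat.mod (T_qi u) M) u) (Nat.ble (nat_lit 35) j)
noncomputable def dp_qi_24 (j u : ℕ) : Bool :=
  Bool.rec (motive := fun _ => Bool) (lS MG [T_p, T_q, T_pi, T_pi, T_qi, T_p, T_q, T_p, T_p] M (Nat.sub (T_qi u) (Nat.mod (T_qi u) M)) (nat_lit 40) (Nat.mod (T_qi u) M) u) (lF [T_p, T_qi, T_qi, T_p, T_qi, T_qi, T_zi, T_p, T_qi] M (Nat.sub (T_qi u) (Nat.mod (T_qi u) M)) (Nat.mod (T_qi u) M) u) (Nat.ble (nat_lit 38) j)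
noncomputable def dp_qi_25 (j u : ℕ) : Bool :=
  Bool.rec (motive := fun _ => Bool) (lF [T_pi, T_q, T_p, T_p, T_qi, T_pi, T_q, T_pi, T_pi] M (Nat.sub (T_qi u) (Nat.mod (T_qi u) M)) (Nat.mod (T_qi u) M) u) (dp_qi_24 j u) (Nat.ble (nat_lit 37) j)
noncomputable def dp_qi_26 (j u : ℕ) : Bool :=
  Bool.rec (motive := fun _ => Bool) (dp_qi_23 j u) (dp_qi_25 j u) (Nat.ble (nat_lit 36) j)
noncomputable def dp_qi_27 (j u : ℕ) : Bool :=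
  Bool.rec (motive := fun _ => Bool) (dp_qi_22 j u) (dp_qi_26 j u) (Nat.ble (nat_lit 34) j)
noncomputable def dp_qi_28 (j u : ℕ) : Bool :=
  Bool.rec (motive := fun _ => Bool) (dp_qi_19 j u) (dp_qi_27 j u) (Nat.ble (nat_lit 30) j)
noncomputable def dp_qi_29 (j u : ℕ) : Bool :=
  Bool.rec (motive := fun _ => Bool) (dp_qi_13 j u) (dp_qi_28 j u) (Nat.ble (nat_lit 23) j)
noncomputable def dp_qi_30 (j u : ℕ) : Bool :=
  Bool.rec (motive := fun _ => Bool) (dp_qi_5 j u) (dp_qi_29 j u) (Nat.ble (nat_lit 14) j)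
noncomputable def dp_qi_31 (j u : ℕ) : Bool :=
  Bool.rec (motive := fun _ => Bool) (Bool.rec (motive := fun _ => Bool) (lF3 T_y T_q T_yi M (Nat.sub (T_qi u) (Nat.mod (T_qi u) M)) (Nat.mod (T_qi u) M) u) (lF3 T_yi T_q T_y M (Nat.sub (T_qi u) (Nat.mod (T_qi u) M)) (Nat.mod (T_qi u) M) u) (Nat.ble (nat_lit 6) j)) (dp_qi_30 j u) (Nat.ble (nat_lit 7) j)
noncomputable def disp_qi (j u : ℕ) : Bool :=
  Bool.rec (motive := fun _ => Bool) (Bool.rec (motive := fun _ => Bool) (lF1 T_q M (Nat.sub (T_qi u) (Nat.mod (T_qi u) M)) (Nat.mod (T_qi u) M) u) (lDef P (nat_lit 3) (Nat.mod (T_qi u) M) u) (Nat.ble (nat_lit 1) j)) (Bool.rec (motive := fun _ => Bool) (Bool.rec (motive := fun _ => Bool) (lDef P (nat_lit 2) u (Nat.mod (T_qi u) M)) (Bool.rec (motive := fun _ => Bool) (lF3 T_z T_q T_zi M (Nat.sub (T_qi u) (Nat.mod (T_qi u) M)) (Nat.mod (T_qi u) M)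 u) (lF3 T_zi T_q T_z M (Nat.sub (T_qi u) (Nat.mod (T_qi u) M)) (Nat.mod (T_qi u) M) u) (Nat.ble (nat_lit 4) j)) (Nat.ble (nat_lit 3) j)) (dp_qi_31 j u) (Nat.ble (nat_lit 5) j)) (Nat.ble (nat_lit 2) j)
noncomputable def chk_qi (j u : ℕ) : Bool :=
  Bool.rec (motive := fun _ => Bool) (disp_qi j u) (Nat.ble (Nat.succ (MG u)) A) (Nat.ble A (T_qi u))
noncomputable def dp_z_0 (j u : ℕ) : Bool :=
  Bool.rec (motive := fun _ => Bool) (lF3 T_p T_zi T_pi M (Nat.sub (T_z u) (Nat.mod (T_z u) M)) (Nat.mod (T_z u) M) u) (lS MG [T_zi] M (Nat.sub (T_z u) (Nat.mod (T_z u) M)) (nat_lit 40) (Nat.mod (T_z u) M) u) (Nat.ble (nat_lit 6) j)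
noncomputable def dp_z_1 (j u : ℕ) : Bool :=
  Bool.rec (motive := fun _ => Bool) (lF3 T_qi T_zi T_q M (Nat.sub (T_z u) (Nat.mod (T_z u) M)) (Nat.mod (T_z u) M) u) (dp_z_0 j u) (Nat.ble (nat_lit 5) j)
noncomputable def dp_z_2 (j u : ℕ) : Bool :=
  Bool.rec (motive := fun _ => Bool) (lF3 T_y T_zi T_yi M (Nat.sub (T_z u) (Nat.mod (T_z u) M)) (Nat.mod (T_z u) M) u) (lF3 T_q T_zi T_qi M (Nat.sub (T_z u) (Nat.mod (T_z u) M)) (Nat.mod (T_z u) M) u) (Nat.ble (nat_lit 9) j)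
noncomputable def dp_z_3 (j u : ℕ) : Bool :=
  Bool.rec (motive := fun _ => Bool) (lS MG [T_pi, T_zi, T_p] M (Nat.sub (T_z u) (Nat.mod (T_z u) M)) (nat_lit 40) (Nat.mod (T_z u) M) u) (dp_z_2 j u) (Nat.ble (nat_lit 8) j)
noncomputable def dp_z_4 (j u : ℕ) : Bool :=
  Bool.rec (motive := fun _ => Bool) (lF3 T_yi T_zi T_y M (Nat.sub (T_z u) (Nat.mod (T_z u) M)) (Nat.mod (T_z u) M) u) (lS MG [T_q, T_zi, T_qi] M (Nat.sub (T_z u) (Nat.mod (T_z u) M)) (nat_lit 40) (Nat.mod (T_z u) M) u) (Nat.ble (nat_lit 11) j)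
noncomputable def dp_z_5 (j u : ℕ) : Bool :=
  Bool.rec (motive := fun _ => Bool) (lS MG [T_q, T_q, T_pi, T_q, T_q, T_pi, T_q, T_q, T_pi] M (Nat.sub (T_z u) (Nat.mod (T_z u) M)) (nat_lit 40) (Nat.mod (T_z u) M) u) (lS MG [T_p, T_zi, T_pi] M (Nat.sub (T_z u) (Nat.mod (T_z u) M)) (nat_lit 40) (Nat.mod (T_z u) M) u) (Nat.ble (nat_lit 16) j)
noncomputable def dp_z_6 (j u : ℕ) : Bool :=
  Bool.rec (motive := fun _ => Bool) (lF [T_z, T_z, T_z, T_z, T_z, T_z, T_z, T_z] M (Nat.sub (T_z u) (Nat.mod (T_z u) M)) (Nat.mod (T_z u) M) u) (dp_z_5 j u) (Nat.ble (nat_lit 15) j)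
noncomputable def dp_z_7 (j u : ℕ) : Bool :=
  Bool.rec (motive := fun _ => Bool) (lF [T_q, T_q, T_pi, T_q, T_q, T_pi, T_q, T_q, T_pi] M (Nat.sub (T_z u) (Nat.mod (T_z u) M)) (Nat.mod (T_z u) M) u) (dp_z_6 j u) (Nat.ble (nat_lit 14) j)
noncomputable def dp_z_8 (j u : ℕ) : Bool :=
  Bool.rec (motive := fun _ => Bool) (lS MG [T_qi, T_zi, T_q] M (Nat.sub (T_z u) (Nat.mod (T_z u) M)) (nat_lit 40) (Nat.mod (T_z u) M) u) (dp_z_7 j u) (Nat.ble (nat_lit 13) j)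
noncomputable def dp_z_9 (j u : ℕ) : Bool :=
  Bool.rec (motive := fun _ => Bool) (dp_z_4 j u) (dp_z_8 j u) (Nat.ble (nat_lit 12) j)
noncomputable def dp_z_10 (j u : ℕ) : Bool :=
  Bool.rec (motive := fun _ => Bool) (dp_z_3 j u) (dp_z_9 j u) (Nat.ble (nat_lit 10) j)
noncomputable def dp_z_11 (j u : ℕ) : Bool :=
  Bool.rec (motive := fun _ => Bool) (dp_z_1 j u) (dp_z_10 j u) (Nat.ble (nat_lit 7) j)
noncomputable def dp_z_12 (j u : ℕ) : Bool :=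
  Bool.rec (motive := fun _ => Bool) (Bool.rec (motive := fun _ => Bool) (lF1 T_zi M (Nat.sub (T_z u) (Nat.mod (T_z u) M)) (Nat.mod (T_z u) M) u) (lF3 T_pi T_zi T_p M (Nat.sub (T_z u) (Nat.mod (T_z u) M)) (Nat.mod (T_z u) M) u) (Nat.ble (nat_lit 3) j)) (dp_z_11 j u) (Nat.ble (nat_lit 4) j)
noncomputable def disp_z (j u : ℕ) : Bool :=
  Bool.rec (motive := fun _ => Bool) (lDef P (nat_lit 5) u (Nat.mod (T_z u) M)) (Bool.rec (motive := fun _ => Bool) (lDef P (nat_lit 4) (Nat.mod (T_z u) M) u) (dp_z_12 j u) (Nat.ble (nat_lit 2) j)) (Nat.ble (nat_lit 1) j)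
noncomputable def chk_z (j u : ℕ) : Bool :=
  Bool.rec (motive := fun _ => Bool) (disp_z j u) (Nat.ble (Nat.succ (MG u)) A) (Nat.ble A (T_z u))
noncomputable def dp_zi_0 (j u : ℕ) : Bool :=
  Bool.rec (motive := fun _ => Bool) (lS MG [T_p, T_z, T_pi] M (Nat.sub (T_zi u) (Nat.mod (T_zi u) M)) (nat_lit 40) (Nat.mod (T_zi u) M) u) (lF3 T_qi T_z T_q M (Nat.sub (T_zi u) (Nat.mod (T_zi u) M)) (Nat.mod (T_zi u) M) u) (Nat.ble (nat_lit 6) j)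
noncomputable def dp_zi_1 (j u : ℕ) : Bool :=
  Bool.rec (motive := fun _ => Bool) (lS MG [T_pi, T_z, T_p] M (Nat.sub (T_zi u) (Nat.mod (T_zi u) M)) (nat_lit 40) (Nat.mod (T_zi u) M) u) (dp_zi_0 j u) (Nat.ble (nat_lit 5) j)
noncomputable def dp_zi_2 (j u : ℕ) : Bool :=
  Bool.rec (motive := fun _ => Bool) (lS MG [T_z] M (Nat.sub (T_zi u) (Nat.mod (T_zi u) M)) (nat_lit 40) (Nat.mod (T_zi u) M) u) (lS MG [T_qi, T_z, T_q] M (Nat.sub (T_zi u) (Nat.mod (T_zi u) M)) (nat_lit 40) (Nat.mod (T_zi u) M) u) (Nat.ble (nat_lit 8) j)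
noncomputable def dp_zi_3 (j u : ℕ) : Bool :=
  Bool.rec (motive := fun _ => Bool) (lF3 T_yi T_z T_y M (Nat.sub (T_zi u) (Nat.mod (T_zi u) M)) (Nat.mod (T_zi u) M) u) (lS MG [T_q, T_z, T_qi] M (Nat.sub (T_zi u) (Nat.mod (T_zi u) M)) (nat_lit 40) (Nat.mod (T_zi u) M) u) (Nat.ble (nat_lit 10) j)
noncomputable def dp_zi_4 (j u : ℕ) : Bool :=
  Bool.rec (motive := fun _ => Bool) (lF3 T_p T_z T_pi M (Nat.sub (T_zi u) (Nat.mod (T_zi u) M)) (Nat.mod (T_zi u) M) u) (lF3 T_q T_z T_qi M (Nat.sub (T_zi u) (Nat.mod (T_zi u) M)) (Nat.mod (T_zi u) M) u) (Nat.ble (nat_lit 13) j)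
noncomputable def dp_zi_5 (j u : ℕ) : Bool :=
  Bool.rec (motive := fun _ => Bool) (lF3 T_y T_z T_yi M (Nat.sub (T_zi u) (Nat.mod (T_zi u) M)) (Nat.mod (T_zi u) M) u) (dp_zi_4 j u) (Nat.ble (nat_lit 12) j)
noncomputable def dp_zi_6 (j u : ℕ) : Bool :=
  Bool.rec (motive := fun _ => Bool) (dp_zi_3 j u) (dp_zi_5 j u) (Nat.ble (nat_lit 11) j)
noncomputable def dp_zi_7 (j u : ℕ) : Bool :=
  Bool.rec (motive := fun _ => Bool) (dp_zi_2 j u) (dp_zi_6 j u) (Nat.ble (nat_lit 9) j)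
noncomputable def dp_zi_8 (j u : ℕ) : Bool :=
  Bool.rec (motive := fun _ => Bool) (dp_zi_1 j u) (dp_zi_7 j u) (Nat.ble (nat_lit 7) j)
noncomputable def dp_zi_9 (j u : ℕ) : Bool :=
  Bool.rec (motive := fun _ => Bool) (Bool.rec (motive := fun _ => Bool) (lF1 T_z M (Nat.sub (T_zi u) (Nat.mod (T_zi u) M)) (Nat.mod (T_zi u) M) u) (lF3 T_pi T_z T_p M (Nat.sub (T_zi u) (Nat.mod (T_zi u) M)) (Nat.mod (T_zi u) M) u) (Nat.ble (nat_lit 3) j)) (dp_zi_8 j u) (Nat.ble (nat_lit 4) j)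
noncomputable def disp_zi (j u : ℕ) : Bool :=
  Bool.rec (motive := fun _ => Bool) (lDef P (nat_lit 5) (Nat.mod (T_zi u) M) u) (Bool.rec (motive := fun _ => Bool) (lDef P (nat_lit 4) u (Nat.mod (T_zi u) M)) (dp_zi_9 j u) (Nat.ble (nat_lit 2) j)) (Nat.ble (nat_lit 1) j)
noncomputable def chk_zi (j u : ℕ) : Bool :=
  Bool.rec (motive := fun _ => Bool) (disp_zi j u) (Nat.ble (Nat.succ (MG u)) A) (Nat.ble A (T_zi u))
noncomputable def dp_y_0 (j u : ℕ) : Bool :=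
  Bool.rec (motive := fun _ => Bool) (lS MG [T_p, T_yi, T_pi] M (Nat.sub (T_y u) (Nat.mod (T_y u) M)) (nat_lit 40) (Nat.mod (T_y u) M) u) (lS MG [T_q, T_yi, T_qi] M (Nat.sub (T_y u) (Nat.mod (T_y u) M)) (nat_lit 40) (Nat.mod (T_y u) M) u) (Nat.ble (nat_lit 6) j)
noncomputable def dp_y_1 (j u : ℕ) : Bool :=
  Bool.rec (motive := fun _ => Bool) (lS MG [T_pi, T_yi, T_p] M (Nat.sub (T_y u) (Nat.mod (T_y u) M)) (nat_lit 40) (Nat.mod (T_y u) M) u) (dp_y_0 j u) (Nat.ble (nat_lit 5) j)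
noncomputable def dp_y_2 (j u : ℕ) : Bool :=
  Bool.rec (motive := fun _ => Bool) (lS MG [T_qi, T_yi, T_q] M (Nat.sub (T_y u) (Nat.mod (T_y u) M)) (nat_lit 40) (Nat.mod (T_y u) M) u) (lF3 T_p T_yi T_pi M (Nat.sub (T_y u) (Nat.mod (T_y u) M)) (Nat.mod (T_y u) M) u) (Nat.ble (nat_lit 8) j)
noncomputable def dp_y_3 (j u : ℕ) : Bool :=
  Bool.rec (motive := fun _ => Bool) (lF3 T_zi T_yi T_z M (Nat.sub (T_y u) (Nat.mod (T_y u) M)) (Nat.mod (T_y u) M) u) (lF [T_y, T_y, T_y, T_y, T_y, T_y, T_y, T_y] M (Nat.sub (T_y u) (Nat.mod (T_y u) M)) (Nat.mod (T_y u) M) u) (Nat.ble (nat_lit 13) j)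
noncomputable def dp_y_4 (j u : ℕ) : Bool :=
  Bool.rec (motive := fun _ => Bool) (lF3 T_q T_yi T_qi M (Nat.sub (T_y u) (Nat.mod (T_y u) M)) (Nat.mod (T_y u) M) u) (dp_y_3 j u) (Nat.ble (nat_lit 12) j)
noncomputable def dp_y_5 (j u : ℕ) : Bool :=
  Bool.rec (motive := fun _ => Bool) (lS MG [T_yi] M (Nat.sub (T_y u) (Nat.mod (T_y u) M)) (nat_lit 40) (Nat.mod (T_y u) M) u) (dp_y_4 j u) (Nat.ble (nat_lit 11) j)
noncomputable def dp_y_6 (j u : ℕ) : Bool :=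
  Bool.rec (motive := fun _ => Bool) (lF3 T_qi T_yi T_q M (Nat.sub (T_y u) (Nat.mod (T_y u) M)) (Nat.mod (T_y u) M) u) (dp_y_5 j u) (Nat.ble (nat_lit 10) j)
noncomputable def dp_y_7 (j u : ℕ) : Bool :=
  Bool.rec (motive := fun _ => Bool) (dp_y_2 j u) (dp_y_6 j u) (Nat.ble (nat_lit 9) j)
noncomputable def dp_y_8 (j u : ℕ) : Bool :=
  Bool.rec (motive := fun _ => Bool) (dp_y_1 j u) (dp_y_7 j u) (Nat.ble (nat_lit 7) j)
noncomputable def dp_y_9 (j u : ℕ) : Bool :=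
  Bool.rec (motive := fun _ => Bool) (Bool.rec (motive := fun _ => Bool) (lF1 T_yi M (Nat.sub (T_y u) (Nat.mod (T_y u) M)) (Nat.mod (T_y u) M) u) (lF3 T_pi T_yi T_p M (Nat.sub (T_y u) (Nat.mod (T_y u) M)) (Nat.mod (T_y u) M) u) (Nat.ble (nat_lit 3) j)) (dp_y_8 j u) (Nat.ble (nat_lit 4) j)
noncomputable def disp_y (j u : ℕ) : Bool :=
  Bool.rec (motive := fun _ => Bool) (Bool.rec (motive := fun _ => Bool) (lDef P (nat_lit 6) (Nat.mod (T_y u) M) u) (lDef P (nat_lit 7) u (Nat.mod (T_y u) M)) (Nat.ble (nat_lit 1) j)) (dp_y_9 j u) (Nat.ble (nat_lit 2) j)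
noncomputable def chk_y (j u : ℕ) : Bool :=
  Bool.rec (motive := fun _ => Bool) (disp_y j u) (Nat.ble (Nat.succ (MG u)) A) (Nat.ble A (T_y u))
noncomputable def dp_yi_0 (j u : ℕ) : Bool :=
  Bool.rec (motive := fun _ => Bool) (lF3 T_pi T_y T_p M (Nat.sub (T_yi u) (Nat.mod (T_yi u) M)) (Nat.mod (T_yi u) M) u) (lF3 T_q T_y T_qi M (Nat.sub (T_yi u) (Nat.mod (T_yi u) M)) (Nat.mod (T_yi u) M) u) (Nat.ble (nat_lit 4) j)
noncomputable def dp_yi_1 (j u : ℕ) : Bool :=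
  Bool.rec (motive := fun _ => Bool) (lS MG [T_qi, T_y, T_q] M (Nat.sub (T_yi u) (Nat.mod (T_yi u) M)) (nat_lit 40) (Nat.mod (T_yi u) M) u) (lS MG [T_pi, T_y, T_p] M (Nat.sub (T_yi u) (Nat.mod (T_yi u) M)) (nat_lit 40) (Nat.mod (T_yi u) M) u) (Nat.ble (nat_lit 10) j)
noncomputable def dp_yi_2 (j u : ℕ) : Bool :=
  Bool.rec (motive := fun _ => Bool) (lS MG [T_y] M (Nat.sub (T_yi u) (Nat.mod (T_yi u) M)) (nat_lit 40) (Nat.mod (T_yi u) M) u) (dp_yi_1 j u) (Nat.ble (nat_lit 9) j)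
noncomputable def dp_yi_3 (j u : ℕ) : Bool :=
  Bool.rec (motive := fun _ => Bool) (lS MG [T_q, T_y, T_qi] M (Nat.sub (T_yi u) (Nat.mod (T_yi u) M)) (nat_lit 40) (Nat.mod (T_yi u) M) u) (dp_yi_2 j u) (Nat.ble (nat_lit 8) j)
noncomputable def dp_yi_4 (j u : ℕ) : Bool :=
  Bool.rec (motive := fun _ => Bool) (lF3 T_qi T_y T_q M (Nat.sub (T_yi u) (Nat.mod (T_yi u) M)) (Nat.mod (T_yi u) M) u) (dp_yi_3 j u) (Nat.ble (nat_lit 7) j)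
noncomputable def dp_yi_5 (j u : ℕ) : Bool :=
  Bool.rec (motive := fun _ => Bool) (lF3 T_p T_y T_pi M (Nat.sub (T_yi u) (Nat.mod (T_yi u) M)) (Nat.mod (T_yi u) M) u) (dp_yi_4 j u) (Nat.ble (nat_lit 6) j)
noncomputable def dp_yi_6 (j u : ℕ) : Bool :=
  Bool.rec (motive := fun _ => Bool) (lF1 T_y M (Nat.sub (T_yi u) (Nat.mod (T_yi u) M)) (Nat.mod (T_yi u) M) u) (Bool.rec (motive := fun _ => Bool) (dp_yi_0 j u) (dp_yi_5 j u) (Nat.ble (nat_lit 5) j)) (Nat.ble (nat_lit 3) j)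
noncomputable def disp_yi (j u : ℕ) : Bool :=
  Bool.rec (motive := fun _ => Bool) (Bool.rec (motive := fun _ => Bool) (lDef P (nat_lit 6) u (Nat.mod (T_yi u) M)) (lDef P (nat_lit 7) (Nat.mod (T_yi u) M) u) (Nat.ble (nat_lit 1) j)) (dp_yi_6 j u) (Nat.ble (nat_lit 2) j)
noncomputable def chk_yi (j u : ℕ) : Bool :=
  Bool.rec (motive := fun _ => Bool) (disp_yi j u) (Nat.ble (Nat.succ (MG u)) A) (Nat.ble A (T_yi u))
noncomputable def dM_0 (j z1 z2 u : ℕ) : Bool :=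
  Bool.rec (motive := fun _ => Bool) (mCo MG T_qi M (Nat.sub (MG u) (Nat.mod (MG u) M)) (nat_lit 40) z1 z2 u (Nat.mod (MG u) M)) (Bool.rec (motive := fun _ => Bool) (mCo MG T_p M (Nat.sub (MG u) (Nat.mod (MG u) M)) (nat_lit 40) z1 z2 u (Nat.mod (MG u) M)) (mCo MG T_q M (Nat.sub (MG u) (Nat.mod (MG u) M)) (nat_lit 40) z1 z2 u (Nat.mod (MG u) M)) (Nat.ble (nat_lit 2) j)) (Nat.ble (nat_lit 1) j)
noncomputable def dM_1 (j z1 z2 u : ℕ) : Bool :=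
  Bool.rec (motive := fun _ => Bool) (mCo MG T_pi M (Nat.sub (MG u) (Nat.mod (MG u) M)) (nat_lit 40) z1 z2 u (Nat.mod (MG u) M)) (mCo MG T_z M (Nat.sub (MG u) (Nat.mod (MG u) M)) (nat_lit 40) z1 z2 u (Nat.mod (MG u) M)) (Nat.ble (nat_lit 4) j)
noncomputable def dM_2 (j z1 z2 u : ℕ) : Bool :=
  Bool.rec (motive := fun _ => Bool) (mCo MG T_zi M (Nat.sub (MG u) (Nat.mod (MG u) M)) (nat_lit 40) z1 z2 u (Nat.mod (MG u) M)) (mCo MG T_y M (Nat.sub (MG u) (Nat.mod (MG u) M)) (nat_lit 40) z1 z2 u (Nat.mod (MG u) M)) (Nat.ble (nat_lit 6) j)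
noncomputable def dM_3 (j z1 z2 u : ℕ) : Bool :=
  Bool.rec (motive := fun _ => Bool) (mCo MG T_yi M (Nat.sub (MG u) (Nat.mod (MG u) M)) (nat_lit 40) z1 z2 u (Nat.mod (MG u) M)) (Bool.rec (motive := fun _ => Bool) (Bool.rec (motive := fun _ => Bool) (mRel MG [T_qi, T_p, T_qi, T_qi, T_zi, T_p, T_qi] [T_q, T_pi, T_q] M (Nat.sub (MG u) (Nat.mod (MG u) M)) (nat_lit 40) z1 u (Nat.mod (MG u) M)) (mRel MG [T_pi, T_q, T_p, T_p, T_qi, T_pi, T_q, T_pi] [T_q, T_p] M (Nat.sub (MG u) (Nat.mod (MG u) M)) (nat_lit 40) z1 u (Nat.mod (MG u) M)) (Nat.ble (nat_lit 9) j)) (Bool.rec (motive := fun _ => Bool) (mRel MG [T_p, T_q, T_pi, T_pi, T_qi, T_p, T_q, T_p] [T_q, T_pi] M (Nat.sub (MG u) (Nat.mod (MG u) M)) (nat_lit 40) z1 u (Nat.mod (MG u) M)) (Bool.rec (motive := fun _ => Bool) (mRel MG [T_pi, T_z] [T_z, T_pi] M (Nat.sub (MG u) (Nat.mod (MG u) M)) (nat_lit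 40) z1 u (Nat.mod (MG u) M)) (mRel MG [T_q, T_q, T_pi, T_q] [T_zi, T_p, T_qi, T_qi, T_p, T_qi] M (Nat.sub (MG u) (Nat.mod (MG u) M)) (nat_lit 40) z1 u (Nat.mod (MG u) M)) (Nat.ble (nat_lit 12) j)) (Nat.ble (nat_lit 11) j)) (Nat.ble (nat_lit 10) j)) (Nat.ble (nat_lit 8) j)
noncomputable def dM_4 (j z1 z2 u : ℕ) : Bool :=
  Bool.rec (motive := fun _ => Bool) (Bool.rec (motive := fun _ => Bool) (Bool.rec (motive := fun _ => Bool) (mRel MG [T_qi, T_pi, T_q, T_pi] [T_pi, T_pi, T_qi, T_p, T_q, T_p] M (Nat.sub (MG u) (Nat.mod (MG u) M)) (nat_lit 40) z1 u (Nat.mod (MG u) M)) (mRel MG [T_q, T_pi, T_pi, T_qi] [T_pi, T_q, T_pi, T_pi, T_qi, T_pi] M (Nat.sub (MG u) (Nat.mod (MG u) M)) (nat_lit 40) z1 u (Nat.mod (MG u) M)) (Nat.ble (nat_lit 14) j)) (Bool.rec (motive := fun _ => Bool) (mRel MG [T_q, T_y, T_qi] [T_y] M (Nat.sub (MG u) (Nat.mod (MG u) M))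 (nat_lit 40) z1 u (Nat.mod (MG u) M)) (mRel MG [T_q, T_pi, T_qi] [T_qi, T_yi, T_p, T_q, T_pi, T_qi, T_qi, T_pi] M (Nat.sub (MG u) (Nat.mod (MG u) M)) (nat_lit 40) z1 u (Nat.mod (MG u) M)) (Nat.ble (nat_lit 16) j)) (Nat.ble (nat_lit 15) j)) (Bool.rec (motive := fun _ => Bool) (Bool.rec (motive := fun _ => Bool) (mRel MG [T_z, T_q] [T_q, T_z] M (Nat.sub (MG u) (Nat.mod (MG u) M)) (nat_lit 40) z1 u (Nat.mod (MG u) M)) (mRel MG [T_qi, T_p, T_q, T_p, T_p] [T_p, T_p, T_qi, T_pi, T_q] M (Nat.sub (MG u) (Nat.mod (MG u) M)) (nat_lit 40) z1 u (Nat.mod (MG u) M)) (Nat.ble (nat_lit 18) j)) (Bool.rec (motive := fun _ => Bool) (mRel MG [T_qi, T_p, T_qi, T_qi, T_p, T_qi, T_qi] [T_q, T_pi, T_z] M (Nat.sub (MG u) (Nat.mod (MG u) M)) (nat_lit 40) z1 u (Nat.mod (MG u) M)) (mRel MG [T_qi, T_pi, T_q, T_pi, T_pi] [T_pi, T_pi, T_qi, T_p, T_q] M (Nat.sub (MG u)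 (Nat.mod (MG u) M)) (nat_lit 40) z1 u (Nat.mod (MG u) M)) (Nat.ble (nat_lit 20) j)) (Nat.ble (nat_lit 19) j)) (Nat.ble (nat_lit 17) j)
noncomputable def dM_5 (j z1 z2 u : ℕ) : Bool :=
  Bool.rec (motive := fun _ => Bool) (Bool.rec (motive := fun _ => Bool) (Bool.rec (motive := fun _ => Bool) (mRel MG [T_p, T_zi] [T_zi, T_p] M (Nat.sub (MG u) (Nat.mod (MG u) M)) (nat_lit 40) z1 u (Nat.mod (MG u) M)) (mRel MG [T_yi, T_qi] [T_qi, T_yi] M (Nat.sub (MG u) (Nat.mod (MG u) M)) (nat_lit 40) z1 u (Nat.mod (MG u) M)) (Nat.ble (nat_lit 22) j)) (Bool.rec (motive := fun _ => Bool) (mRel MG [T_p, T_y] [T_y, T_p] M (Nat.sub (MG u) (Nat.mod (MG u) M)) (nat_lit 40) z1 u (Nat.mod (MG u) M)) (mRel MG [T_pi, T_z, T_q, T_q, T_pi, T_q] [T_qi, T_qi, T_p, T_qi] M (Nat.sub (MG u) (Nat.mod (MG u) M)) (nat_lit 40) z1 u (Nat.mod (MG u) M)) (Nat.ble (nat_lit 24) j))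 (Nat.ble (nat_lit 23) j)) (Bool.rec (motive := fun _ => Bool) (Bool.rec (motive := fun _ => Bool) (mRel MG [T_yi, T_p, T_q, T_pi, T_qi, T_qi] [T_q, T_q, T_pi, T_qi, T_p] M (Nat.sub (MG u) (Nat.mod (MG u) M)) (nat_lit 40) z1 u (Nat.mod (MG u) M)) (mRel MG [T_y, T_q, T_q, T_pi, T_qi, T_p, T_q, T_q] [T_p, T_q, T_pi] M (Nat.sub (MG u) (Nat.mod (MG u) M)) (nat_lit 40) z1 u (Nat.mod (MG u) M)) (Nat.ble (nat_lit 26) j)) (Bool.rec (motive := fun _ => Bool) (mRel MG [T_q, T_p, T_p] [T_p, T_q, T_p, T_p, T_qi, T_p, T_q] M (Nat.sub (MG u) (Nat.mod (MG u) M)) (nat_lit 40) z1 u (Nat.mod (MG u) M)) (mRel MG [T_p, T_qi, T_pi, T_q, T_pi] [T_pi, T_qi, T_p, T_q, T_p] M (Nat.sub (MG u) (Nat.mod (MG u) M)) (nat_lit 40) z1 u (Nat.mod (MG u) M)) (Nat.ble (nat_lit 28) j)) (Nat.ble (nat_lit 27) j)) (Nat.ble (nat_lit 25) j)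
noncomputable def dM_6 (j z1 z2 u : ℕ) : Bool :=
  Bool.rec (motive := fun _ => Bool) (dM_4 j z1 z2 u) (dM_5 j z1 z2 u) (Nat.ble (nat_lit 21) j)
noncomputable def dM_7 (j z1 z2 u : ℕ) : Bool :=
  Bool.rec (motive := fun _ => Bool) (Bool.rec (motive := fun _ => Bool) (Bool.rec (motive := fun _ => Bool) (mRel MG [T_y, T_pi] [T_pi, T_y] M (Nat.sub (MG u) (Nat.mod (MG u) M)) (nat_lit 40) z1 u (Nat.mod (MG u) M)) (mRel MG [T_p, T_p, T_qi, T_pi, T_q, T_pi, T_pi, T_qi] [T_qi, T_p] M (Nat.sub (MG u) (Nat.mod (MG u) M)) (nat_lit 40) z1 u (Nat.mod (MG u) M)) (Nat.ble (nat_lit 30) j)) (Bool.rec (motive := fun _ => Bool) (mRel MG [T_qi, T_p, T_qi, T_qi, T_p] [T_q, T_pi, T_z, T_q, T_q] M (Nat.sub (MG u) (Nat.mod (MG u) M)) (nat_lit 40) z1 u (Nat.mod (MG u) M)) (mRel MG [T_qi, T_qi, T_zi, T_p, T_qi] [T_pi, T_q, T_q, T_pi, T_q] M (Nat.sub (MG u) (Nat.mod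 (MG u) M)) (nat_lit 40) z1 u (Nat.mod (MG u) M)) (Nat.ble (nat_lit 32) j)) (Nat.ble (nat_lit 31) j)) (Bool.rec (motive := fun _ => Bool) (Bool.rec (motive := fun _ => Bool) (mRel MG [T_qi, T_z, T_q] [T_z] M (Nat.sub (MG u) (Nat.mod (MG u) M)) (nat_lit 40) z1 u (Nat.mod (MG u) M)) (mRel MG [T_q, T_p] [T_p, T_q, T_p, T_p, T_qi, T_p, T_q, T_pi] M (Nat.sub (MG u) (Nat.mod (MG u) M)) (nat_lit 40) z1 u (Nat.mod (MG u) M)) (Nat.ble (nat_lit 34) j)) (Bool.rec (motive := fun _ => Bool) (mRel MG [T_q, T_z] [T_z, T_q] M (Nat.sub (MG u) (Nat.mod (MG u) M)) (nat_lit 40) z1 u (Nat.mod (MG u) M)) (mRel MG [T_z, T_q, T_q, T_pi, T_q, T_q] [T_p, T_qi, T_qi, T_p] M (Nat.sub (MG u) (Nat.mod (MG u) M)) (nat_lit 40) z1 u (Nat.mod (MG u) M)) (Nat.ble (nat_lit 36) j)) (Nat.ble (nat_lit 35) j)) (Nat.ble (nat_lit 33) j)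
noncomputable def dM_8 (j z1 z2 u : ℕ) : Bool :=
  Bool.rec (motive := fun _ => Bool) (Bool.rec (motive := fun _ => Bool) (Bool.rec (motive := fun _ => Bool) (mRel MG [T_qi, T_p, T_qi, T_qi, T_zi] [T_q, T_pi, T_q, T_q, T_pi] M (Nat.sub (MG u) (Nat.mod (MG u) M)) (nat_lit 40) z1 u (Nat.mod (MG u) M)) (mRel MG [T_p, T_qi, T_qi, T_p, T_qi, T_qi, T_p, T_qi, T_qi] [T_z] M (Nat.sub (MG u) (Nat.mod (MG u) M)) (nat_lit 40) z1 u (Nat.mod (MG u) M)) (Nat.ble (nat_lit 38) j)) (Bool.rec (motive := fun _ => Bool) (mRel MG [T_zi, T_q, T_z] [T_q] M (Nat.sub (MG u) (Nat.mod (MG u) M)) (nat_lit 40) z1 u (Nat.mod (MG u) M)) (mRel MG [T_qi] [T_p, T_p, T_qi, T_p, T_q, T_pi, T_pi, T_qi, T_p] M (Nat.sub (MG u) (Nat.mod (MG u) M)) (nat_lit 40) z1 u (Nat.mod (MG u) M)) (Nat.ble (nat_lit 40) j)) (Nat.ble (nat_lit 39) j)) (Bool.rec (motive := fun _ => Bool) (Bool.rec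 (motive := fun _ => Bool) (mRel MG [T_q, T_pi, T_pi, T_qi, T_pi, T_q, T_p, T_p, T_qi] [T_p] M (Nat.sub (MG u) (Nat.mod (MG u) M)) (nat_lit 40) z1 u (Nat.mod (MG u) M)) (mRel MG [T_p, T_p, T_qi, T_p, T_q, T_pi, T_pi, T_qi, T_p, T_q] [] M (Nat.sub (MG u) (Nat.mod (MG u) M)) (nat_lit 40) z1 u (Nat.mod (MG u) M)) (Nat.ble (nat_lit 42) j)) (Bool.rec (motive := fun _ => Bool) (mRel MG [T_p, T_q, T_pi, T_pi, T_qi] [T_q, T_pi, T_pi, T_qi, T_pi] M (Nat.sub (MG u) (Nat.mod (MG u) M)) (nat_lit 40) z1 u (Nat.mod (MG u) M)) (mRel MG [T_qi, T_p, T_qi, T_qi, T_p, T_qi] [T_q, T_pi, T_z, T_q] M (Nat.sub (MG u) (Nat.mod (MG u) M)) (nat_lit 40) z1 u (Nat.mod (MG u) M)) (Nat.ble (nat_lit 44) j)) (Nat.ble (nat_lit 43) j)) (Nat.ble (nat_lit 41) j)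
noncomputable def dM_9 (j z1 z2 u : ℕ) : Bool :=
  Bool.rec (motive := fun _ => Bool) (dM_7 j z1 z2 u) (dM_8 j z1 z2 u) (Nat.ble (nat_lit 37) j)
noncomputable def dM_10 (j z1 z2 u : ℕ) : Bool :=
  Bool.rec (motive := fun _ => Bool) (dM_6 j z1 z2 u) (dM_9 j z1 z2 u) (Nat.ble (nat_lit 29) j)
noncomputable def dM_11 (j z1 z2 u : ℕ) : Bool :=
  Bool.rec (motive := fun _ => Bool) (dM_3 j z1 z2 u) (dM_10 j z1 z2 u) (Nat.ble (nat_lit 13) j)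
noncomputable def dM_12 (j z1 z2 u : ℕ) : Bool :=
  Bool.rec (motive := fun _ => Bool) (dM_2 j z1 z2 u) (dM_11 j z1 z2 u) (Nat.ble (nat_lit 7) j)
noncomputable def dM_13 (j z1 z2 u : ℕ) : Bool :=
  Bool.rec (motive := fun _ => Bool) (dM_1 j z1 z2 u) (dM_12 j z1 z2 u) (Nat.ble (nat_lit 5) j)
noncomputable def dM_14 (j z1 z2 u : ℕ) : Bool :=
  Bool.rec (motive := fun _ => Bool) (dM_0 j z1 z2 u) (dM_13 j z1 z2 u) (Nat.ble (nat_lit 3) j)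
noncomputable def chkM (u : ℕ) : Bool :=
  Bool.rec (motive := fun _ => Bool) (band (Nat.ble (Nat.succ (Nat.mod (MG u) M)) u) (dM_14 (Nat.land (MR u) (nat_lit 63)) (Nat.land (Nat.shiftRight (MR u) (nat_lit 6)) (nat_lit 1023)) (Nat.shiftRight (MR u) (nat_lit 16)) u)) true (Nat.ble A (MG u))
noncomputable def chkN (u : ℕ) : Bool :=
  band (chk_p (Nat.land (Nat.shiftRight (RS u) (nat_lit 0)) (nat_lit 63)) u) (band (chk_pi (Nat.land (Nat.shiftRight (RS u) (nat_lit 6)) (nat_lit 63)) u) (band (chk_q (Nat.land (Nat.shiftRight (RS u) (nat_lit 12)) (nat_lit 63)) u) (band (chk_qi (Nat.land (Nat.shiftRight (RS u) (nat_lit 18)) (nat_lit 63)) u) (band (chk_z (Nat.land (Nat.shiftRight (RS u) (nat_lit 24)) (nat_lit 63)) u) (band (chk_zi (Nat.land (Nat.shiftRight (RS u) (nat_lit 30)) (nat_lit 63)) u) (band (chk_y (Nat.land (Nat.shiftRight (RS u) (nat_lit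 36)) (nat_lit 63)) u) (band (chk_yi (Nat.land (Nat.shiftRight (RS u) (nat_lit 42)) (nat_lit 63)) u) (chkM u))))))))
noncomputable def chkP (u : ℕ) : Bool := Bool.rec (motive := fun _ => Bool) (chkN u) true (Nat.ble M u)
noncomputable def liveP (u : ℕ) : Bool := Bool.rec (motive := fun _ => Bool) (Nat.ble A (MG u)) false (Nat.ble M u)
end H64.TCMCD
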